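import Mathlib

/-!
# The conductor of a graded domain is homogeneous
-/

universe u

open DirectSum Polynomial

namespace Groth.Agent.H6GradedClosure

variable {G : Type u} [CommRing G] {σ : Type*} [SetLike σ G] [AddSubgroupClass σ G] (𝒢 : ℕ → σ) [GradedRing 𝒢]

/-- The generic scaling map `g ↦ ∑ gₙ Xⁿ`. -/
noncomputable def scale : G →+* G[X] :=
  (DirectSum.toSemiring (fun i : ℕ => (Polynomial.monomial i).toAddMonoidHom.comp (AddSubmonoidClass.subtype (𝒢 i)))
    (by simp)
    (fun {i j} a b => by simp [Polynomial.monomial_mul_monomial])).comp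
    (decomposeRingEquiv 𝒢).toRingHom

theorem scale_of_mem {n : ℕ} {x : G} (hx : x ∈ 𝒢 n) : scale 𝒢 x = Polynomial.monomial n x := by
  rw [scale, RingHom.comp_apply]
  change DirectSum.toAddMonoid _ (decompose 𝒢 x) = _
  rw [decompose_of_mem 𝒢 hx, DirectSum.toAddMonoid_of]
  rfl

theorem coeff_scale (g : G) (n : ℕ) : (scale 𝒢 g).coeff n = (decompose 𝒢 g n : G) := by
  induction g using DirectSum.Decomposition.inductionOn 𝒢 with
  | zero => simp
  | @homogeneous i x =>
    rw [scale_of_mem 𝒢 x.2, Polynomial.coeff_monomial]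
    split_ifs with h
    · subst h; rw [decompose_of_mem_same 𝒢 x.2]
    · rw [decompose_of_mem_ne 𝒢 x.2 h]
  | add a b ha hb => rw [map_add, Polynomial.coeff_add, ha, hb, decompose_add, DirectSum.add_apply, AddMemClass.coe_add]

theorem eval_one_scale (g : G) : (scale 𝒢 g).eval 1 = g := by
  induction g using DirectSum.Decomposition.inductionOn 𝒢 with
  | zero => simp
  | @homogeneous i x => rw [scale_of_mem 𝒢 x.2, Polynomial.eval_monomial, one_pow, mul_one]
  | add a b ha hb => rw [map_add, Polynomial.eval_add, ha, hb]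

theorem scale_injective : Function.Injective (scale 𝒢) := fun a b h => by
  rw [← eval_one_scale 𝒢 a, h, eval_one_scale]

variable [IsDomain G] (L : Type u) [Field L] [Algebra G L] [IsFractionRing G L]

/-- An element of the fraction field is homogeneous of degree `n` if it is a quotient of homogeneous elements of
degrees `e + n` and `e`. -/
def IsHomFrac (n : ℕ) (y : L) : Prop :=
  ∃ (e : ℕ) (h B : G), h ∈ 𝒢 (e + n) ∧ B ∈ 𝒢 e ∧ B ≠ 0 ∧ y * algebraMap G L B = algebraMap G L h

variable {L}

/-- An equation `P · b = a` between scaled elements forces the coefficients of `P` to be homogeneous. -/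
theorem isHomFrac_coeff (P : L[X]) {a b : G} (hb0 : b ≠ 0)
    (heq : P * (scale 𝒢 b).map (algebraMap G L) = (scale 𝒢 a).map (algebraMap G L)) (n : ℕ) :
    IsHomFrac 𝒢 L n (P.coeff n) := by
  classical
  obtain ⟨e, he, hlow⟩ : ∃ e, (decompose 𝒢 b e : G) ≠ 0 ∧ ∀ i < e, (decompose 𝒢 b i : G) = 0 := by
    have hex : ∃ e, (decompose 𝒢 b e : G) ≠ 0 := by
      by_contra h
      push Not at h
      exact hb0 ((decompose 𝒢).injective (by ext i; simp [h i]))
    exact ⟨Nat.find hex, Nat.find_spec hex, fun i hi => not_not.1 (Nat.find_min hex hi)⟩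
  have hB : (decompose 𝒢 b e : G) ∈ 𝒢 e := SetLike.coe_mem _
  suffices key : ∀ n, ∃ h ∈ 𝒢 ((n + 1) * e + n),
      P.coeff n * algebraMap G L (decompose 𝒢 b e : G) ^ (n + 1) = algebraMap G L h by
    obtain ⟨h, hh, hhe⟩ := key n
    refine ⟨(n + 1) * e, h, (decompose 𝒢 b e : G) ^ (n + 1), hh, ?_, pow_ne_zero _ he, ?_⟩
    · have := SetLike.pow_mem_graded (n + 1) hB
      rwa [smul_eq_mul] at this
    · rw [map_pow]
      exact hhe
  intro n
  induction n using Nat.strong_induction_on with
  | _ n ih =>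
    have hc := congrArg (fun q : L[X] => q.coeff (n + e)) heq
    simp only [Polynomial.coeff_map, coeff_scale, Polynomial.coeff_mul] at hc
    choose h hh hhe using ih
    rw [Finset.Nat.sum_antidiagonal_eq_sum_range_succ
      (fun i k => P.coeff i * algebraMap G L (decompose 𝒢 b k : G)) (n + e)] at hc
    have hsub : Finset.range (n + 1) ⊆ Finset.range (n + e + 1) := Finset.range_mono (by omega)
    rw [← Finset.sum_subset hsub (fun i hi hi' => by
        simp only [Finset.mem_range] at hi hi'
        rw [hlow _ (by omega), map_zero, mul_zero]),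
      Finset.sum_range_succ, show n + e - n = e by omega] at hc
    refine ⟨(decompose 𝒢 a (n + e) : G) * (decompose 𝒢 b e : G) ^ n -
      ∑ i : Fin n, h i i.2 * (decompose 𝒢 b (n + e - (i : ℕ)) : G) * (decompose 𝒢 b e : G) ^ (n - (i : ℕ) - 1), ?_, ?_⟩
    · refine sub_mem ?_ (sum_mem fun i _ => ?_)
      · have := SetLike.mul_mem_graded (SetLike.coe_mem (decompose 𝒢 a (n + e))) (SetLike.pow_mem_graded n hB)
        rw [smul_eq_mul, show n + e + n * e = (n + 1) * e + n by ring] at this
        exact this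
      · have := SetLike.mul_mem_graded (SetLike.mul_mem_graded (hh i i.2)
          (SetLike.coe_mem (decompose 𝒢 b (n + e - (i : ℕ))))) (SetLike.pow_mem_graded (n - (i : ℕ) - 1) hB)
        obtain ⟨j, hj⟩ := Nat.exists_eq_add_of_lt i.2
        rw [smul_eq_mul, show ((i : ℕ) + 1) * e + i + (n + e - (i : ℕ)) + (n - (i : ℕ) - 1) * e = (n + 1) * e + n by
          rw [show n + e - (i : ℕ) = j + 1 + e by omega, show n - (i : ℕ) - 1 = j by omega]
          have : ((i : ℕ) + 1) * e + (i : ℕ) + (j + 1 + e) + j * e = ((i : ℕ) + j + 1 + 1) * e + ((i : ℕ) + j + 1) := by ring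
          rwa [← hj] at this] at this
        exact this
    · have hsum : (∑ i ∈ Finset.range n, P.coeff i * algebraMap G L (decompose 𝒢 b (n + e - i) : G)) *
          algebraMap G L (decompose 𝒢 b e : G) ^ n = algebraMap G L (∑ i : Fin n,
            h i i.2 * (decompose 𝒢 b (n + e - (i : ℕ)) : G) * (decompose 𝒢 b e : G) ^ (n - (i : ℕ) - 1)) := by
        rw [Finset.sum_range, Finset.sum_mul, map_sum]
        refine Finset.sum_congr rfl fun i _ => ?_
        rw [map_mul, map_mul, map_pow, ← hhe i i.2]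
        obtain ⟨j, hj⟩ := Nat.exists_eq_add_of_lt i.2
        rw [show n - (i : ℕ) - 1 = j by omega]
        conv_lhs => rw [show algebraMap G L (decompose 𝒢 b e : G) ^ n =
          algebraMap G L (decompose 𝒢 b e : G) ^ (((i : ℕ) + 1) + j) from congrArg _ (by omega), pow_add]
        ring
      rw [map_sub, map_mul, map_pow, ← hsum, ← hc, pow_succ]
      ring

/-- Evaluation at one of an equation between scaled elements. -/
theorem exists_scale_equation (K : Type u) [Field K] [Algebra L[X] K] [IsFractionRing L[X] K]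
    {x : L} (hx : IsIntegral G x) :
    ∃ (P : L[X]) (a b : G), b ≠ 0 ∧ x = algebraMap G L a / algebraMap G L b ∧ (∀ n, IsIntegral G (P.coeff n)) ∧
      P * (scale 𝒢 b).map (algebraMap G L) = (scale 𝒢 a).map (algebraMap G L) := by
  let ι : G[X] →+* L[X] := Polynomial.mapRingHom (algebraMap G L)
  have hι : Function.Injective ι := Polynomial.map_injective _ (IsFractionRing.injective G L)
  let φ : G →+* K := (algebraMap L[X] K).comp (ι.comp (scale 𝒢))
  have hφ : Function.Injective φ := (IsFractionRing.injective L[X] K).comp (hι.comp (scale_injective 𝒢))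
  let ψ : L →+* K := IsFractionRing.lift hφ
  have hψ : ∀ g, ψ (algebraMap G L g) = φ g := fun g => IsFractionRing.lift_algebraMap hφ g
  obtain ⟨p, hp, hp0⟩ := hx
  letI : Algebra G[X] L[X] := ι.toAlgebra
  letI : Algebra G[X] K := ((algebraMap L[X] K).comp ι).toAlgebra
  haveI : IsScalarTower G[X] L[X] K := IsScalarTower.of_algebraMap_eq fun q => rfl
  have hint : IsIntegral G[X] (ψ x) := by
    refine ⟨p.map (scale 𝒢), hp.map _, ?_⟩
    rw [Polynomial.eval₂_map, show (algebraMap G[X] K).comp (scale 𝒢) = φ from rfl,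
      show φ = ψ.comp (algebraMap G L) from RingHom.ext fun g => (hψ g).symm,
      ← Polynomial.hom_eval₂, hp0, map_zero]
  obtain ⟨P, hP⟩ := IsIntegrallyClosed.algebraMap_eq_of_integral (R := L[X]) hint.tower_top
  have hPint : IsIntegral G[X] P := (isIntegral_algebraMap_iff (IsFractionRing.injective L[X] K)).1 (hP ▸ hint)
  obtain ⟨a, b, hb, rfl⟩ := IsFractionRing.div_surjective (A := G) x
  have hb0 : b ≠ 0 := nonZeroDivisors.ne_zero hb
  refine ⟨P, a, b, hb0, rfl, Polynomial.isIntegral_iff_isIntegral_coeff.1 hPint, ?_⟩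
  apply IsFractionRing.injective L[X] K
  rw [map_mul, hP, map_div₀, hψ, hψ]
  have hb' : φ b ≠ 0 := fun h => hb0 (hφ (h.trans (map_zero _).symm))
  exact div_mul_cancel₀ _ hb'

theorem exists_homogeneous_decomposition {x : L} (hx : IsIntegral G x) :
    ∃ P : L[X], P.eval 1 = x ∧ ∀ n, IsIntegral G (P.coeff n) ∧ IsHomFrac 𝒢 L n (P.coeff n) := by
  obtain ⟨P, a, b, hb0, hab, hint, heq⟩ := exists_scale_equation 𝒢 (FractionRing L[X]) hx
  refine ⟨P, ?_, fun n => ⟨hint n, isHomFrac_coeff 𝒢 P hb0 heq n⟩⟩
  have hbL : algebraMap G L b ≠ 0 := fun h => hb0 (IsFractionRing.injective G L (h.trans (map_zero _).symm))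
  have h := congrArg (Polynomial.eval 1) heq
  have hev : ∀ g : G, ((scale 𝒢 g).map (algebraMap G L)).eval 1 = algebraMap G L g := fun g => by
    rw [Polynomial.eval_map, ← map_one (algebraMap G L), Polynomial.eval₂_at_apply, eval_one_scale]
  rw [Polynomial.eval_mul, hev, hev] at h
  rw [hab, eq_div_iff hbL, h]

variable (L) in
/-- The conductor of `G` in its normalisation. -/
noncomputable def conductor : Ideal G :=
  Module.annihilator G ((↥(integralClosure G L)) ⧸ LinearMap.range (Algebra.linearMap G ↥(integralClosure G L)))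

omit [GradedRing 𝒢] [IsDomain G] [IsFractionRing G L] in
theorem mem_conductor_iff {c : G} :
    c ∈ conductor L ↔ ∀ x : L, IsIntegral G x → ∃ g : G, algebraMap G L c * x = algebraMap G L g := by
  rw [conductor, Module.mem_annihilator]
  constructor
  · intro h x hx
    have := h (Submodule.Quotient.mk ⟨x, hx⟩)
    rw [← Submodule.Quotient.mk_smul, Submodule.Quotient.mk_eq_zero] at this
    obtain ⟨g, hg⟩ := this
    exact ⟨g, by rw [← Algebra.smul_def]; exact (congrArg Subtype.val hg).symm⟩
  · intro h m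
    obtain ⟨⟨x, hx⟩, rfl⟩ := Submodule.Quotient.mk_surjective _ m
    obtain ⟨g, hg⟩ := h x hx
    rw [← Submodule.Quotient.mk_smul, Submodule.Quotient.mk_eq_zero]
    exact ⟨g, Subtype.ext (by rw [← Algebra.smul_def] at hg; exact hg.symm)⟩

/-- The conductor of a graded domain is homogeneous. -/
theorem isHomogeneous_conductor : (conductor (G := G) L).IsHomogeneous 𝒢 := by
  intro m c hc
  rw [mem_conductor_iff] at hc ⊢
  intro x hx
  obtain ⟨P, hP1, hP⟩ := exists_homogeneous_decomposition 𝒢 hx
  rw [← hP1, Polynomial.eval_eq_sum, Polynomial.sum, Finset.mul_sum]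
  have key : ∀ n, ∃ g : G, algebraMap G L (decompose 𝒢 c m : G) * (P.coeff n * 1 ^ n) = algebraMap G L g := by
    intro n
    obtain ⟨hi, e, h, B, hh, hB, hB0, hy⟩ := hP n
    obtain ⟨g, hg⟩ := hc _ hi
    have hrel : c * h = g * B := IsFractionRing.injective G L (by
      rw [map_mul, map_mul, ← hy, ← mul_assoc, hg])
    refine ⟨decompose 𝒢 g (m + n), ?_⟩
    have h1 := congrArg (fun z => (decompose 𝒢 z (m + (e + n)) : G)) hrel
    simp only [coe_decompose_mul_add_of_right_mem 𝒢 hh] at h1
    rw [show m + (e + n) = (m + n) + e by omega, coe_decompose_mul_add_of_right_mem 𝒢 hB] at h1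
    have hBL : algebraMap G L B ≠ 0 := fun h0 => hB0 (IsFractionRing.injective G L (h0.trans (map_zero _).symm))
    refine mul_right_cancel₀ hBL ?_
    rw [one_pow, mul_one, mul_assoc, hy, ← map_mul, h1, map_mul]
  choose g hg using key
  exact ⟨∑ n ∈ P.support, g n, by rw [map_sum]; exact Finset.sum_congr rfl fun n _ => hg n⟩

end Groth.Agent.H6GradedClosure
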