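import Groth.Agent.H6GradedClosure.Punctured
import Groth.Agent.FlatLoc6.SerreNormal
import Groth.Agent.Alg6.AssDepth
import Groth.Agent.LC.Depth
import Groth.Agent.LC.CohTorsion
import Groth.Agent.VarDim.Basic

/-!
# The first local cohomology of a graded domain at the vertex
-/

universe u

open CategoryTheory
open scoped Pointwise

namespace Groth.Agent.H6GradedClosure

section Depth

variable (k : Type u) [Field k] {G : Type u} [CommRing G] [IsDomain G] [Algebra k G] [Algebra.FiniteType k G]
  (C : Type u) [CommRing C] [IsDomain C] [IsIntegrallyClosed C] [Algebra G C] [Module.Finite G C]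
  [FaithfulSMul G C]

include k in
/-- A normal finite overdomain has depth at least two at a maximal ideal of a domain of dimension at least two. -/
theorem two_le_idealDepth (m : Ideal G) [m.IsMaximal] (hdim : 2 ≤ ringKrullDim G) :
    (2 : ℕ∞) ≤ LocCoh.idealDepth m C := by
  classical
  haveI : IsNoetherianRing G := Algebra.FiniteType.isNoetherianRing k G
  haveI : IsNoetherianRing C := IsNoetherianRing.of_finite G C
  letI : Algebra k C := ((algebraMap G C).comp (algebraMap k G)).toAlgebra
  haveI : IsScalarTower k G C := IsScalarTower.of_algebraMap_eq fun _ => rfl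
  haveI : Algebra.FiniteType k C := Algebra.FiniteType.trans (S := G) inferInstance inferInstance
  haveI : Algebra.IsIntegral G C := Algebra.IsIntegral.of_finite G C
  obtain ⟨n, hn, -⟩ := VarDim.exists_dim_eq_trdeg k C
  have hn2 : 2 ≤ n := by
    rw [← VarDim.ringKrullDim_eq_of_isIntegral (R := G) (S := C), hn] at hdim
    exact_mod_cast hdim
  have hm0 : m ≠ ⊥ := fun h => by
    have hf : IsField G := by
      refine (not_not.1 fun hnf => ?_)
      exact Ring.ne_bot_of_isMaximal_of_not_isField ‹m.IsMaximal› hnf h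
    rw [ringKrullDim_eq_zero_of_isField hf] at hdim
    exact absurd hdim (by decide)
  obtain ⟨a, ham, ha0⟩ := Submodule.exists_mem_ne_zero_of_ne_bot hm0
  let a' := algebraMap G C a
  have ha' : a' ≠ 0 := fun h => ha0 (FaithfulSMul.algebraMap_injective G C (h.trans (map_zero _).symm))
  have hreg : IsSMulRegular C a' := fun x y h => mul_left_cancel₀ ha' h
  have hS2 : LocCoh.HasSk 2 C C := (FlatLoc6.R1_S2_of_normal fun p _ =>
    ⟨IsLocalization.isDomain_localization (Ideal.primeCompl_le_nonZeroDivisors p),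
      isIntegrallyClosed_of_isLocalization (Localization.AtPrime p) p.primeCompl (Ideal.primeCompl_le_nonZeroDivisors p)⟩).2
  have hfin := associatedPrimes.finite C (QuotSMulTop a' C)
  obtain ⟨b, hbm, hb⟩ : ∃ b ∈ m, ∀ P ∈ associatedPrimes C (QuotSMulTop a' C), algebraMap G C b ∉ P := by
    by_contra hcon
    push Not at hcon
    have hsub : (m : Set G) ⊆ ⋃ P ∈ hfin.toFinset, (P.comap (algebraMap G C) : Set G) := fun b hb => by
      obtain ⟨P, hP, hbP⟩ := hcon b hb
      exact Set.mem_iUnion₂.2 ⟨P, hfin.mem_toFinset.2 hP, hbP⟩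
    obtain ⟨P, hP, hle⟩ := (Ideal.subset_union_prime ⊥ ⊥ fun P hP _ _ =>
      haveI := (hfin.mem_toFinset.1 hP).isPrime
      Ideal.comap_isPrime (algebraMap G C) P).1 hsub
    replace hP := hfin.mem_toFinset.1 hP
    haveI := hP.isPrime
    have hmP : m = P.comap (algebraMap G C) :=
      ‹m.IsMaximal›.eq_of_le (Ideal.comap_isPrime _ P).ne_top hle
    haveI : P.IsMaximal := Ideal.isMaximal_of_isIntegral_of_isMaximal_comap P (hmP ▸ ‹m.IsMaximal›)
    have h1 := FlatLoc6.height_le_one_of_mem_ass_quot hS2 hreg (hmP.le ham) hP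
    have h2 := VarDim.height_add_coheight_eq k n C hn ⟨P, inferInstance⟩
    have h3 : Order.coheight (⟨P, inferInstance⟩ : PrimeSpectrum C) = 0 :=
      Order.coheight_eq_zero.2 fun q hq => (PrimeSpectrum.asIdeal_le_asIdeal _ _).1
        ((‹P.IsMaximal›.eq_of_le q.2.ne_top hq).ge)
    rw [h3, add_zero, ← PrimeSpectrum.height_eq_orderHeight] at h2
    rw [h2] at h1
    exact absurd hn2 (by
      have : n ≤ 1 := by exact_mod_cast h1
      omega)
  have hbreg : IsSMulRegular (QuotSMulTop a' C) (algebraMap G C b) := by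
    refine isSMulRegular_iff_right_eq_zero_of_smul.2 fun x hx => ?_
    by_contra hx0
    have hmem : algebraMap G C b ∈ {r : C | ∃ x : QuotSMulTop a' C, x ≠ 0 ∧ r • x = 0} := ⟨x, hx0, hx⟩
    rw [← biUnion_associatedPrimes_eq_zero_divisors] at hmem
    obtain ⟨P, hP, hPb⟩ := Set.mem_iUnion₂.1 hmem
    exact hb P hP hPb
  have hw : RingTheory.Sequence.IsWeaklyRegular C ([a, b].map (algebraMap G C)) := by
    rw [List.map_cons, List.map_cons, List.map_nil]
    refine RingTheory.Sequence.IsWeaklyRegular.cons hreg ?_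
    exact RingTheory.Sequence.IsWeaklyRegular.cons hbreg (RingTheory.Sequence.IsWeaklyRegular.nil _ _)
  rw [RingTheory.Sequence.isWeaklyRegular_map_algebraMap_iff] at hw
  exact Alg6.length_le_idealDepth hw (by simp [ham, hbm])

end Depth

variable {k : Type u} [Field k] {G : Type u} [CommRing G] [IsDomain G] [Algebra k G] [IsNoetherianRing G]
  (𝒢 : ℕ → Submodule k G) [GradedAlgebra 𝒢] (L : Type u) [Field L] [Algebra G L] [IsFractionRing G L]

theorem nonempty_defect_equiv_H (h0 : ∀ x ∈ 𝒢 0, x ∈ Set.range (algebraMap k G)) (hdim : 2 ≤ ringKrullDim G)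
    (hfin : IsFiniteLength G (Defect G L)) :
    Nonempty (Defect G L ≃ₗ[G] LocCoh.H (HomogeneousIdeal.irrelevant 𝒢).toIdeal 1 G) := by
  let I := (HomogeneousIdeal.irrelevant 𝒢).toIdeal
  haveI : I.IsMaximal := isMaximal_irrelevant 𝒢 h0
  haveI := finiteType 𝒢 h0
  haveI := finite_integralClosure 𝒢 L h0
  haveI : IsIntegrallyClosed (integralClosure G L) :=
    (isIntegrallyClosed_iff L).2 fun {x} hx => ⟨⟨x, isIntegral_trans x hx⟩, rfl⟩
  haveI : FaithfulSMul G (integralClosure G L) := (faithfulSMul_iff_algebraMap_injective _ _).2 fun a b h =>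
    IsFractionRing.injective G L (congrArg Subtype.val h)
  haveI : IsFractionRing (integralClosure G L) L :=
    integralClosure.isFractionRing_of_finite_extension (K := L) L
  have hdepth := two_le_idealDepth k (integralClosure G L) I hdim
  have hvan := (LC.le_idealDepth_iff_H I (integralClosure G L) 2).1 hdepth
  have htor : LocCoh.IsPowerTorsion I (Defect G L) := by
    obtain ⟨N, hN⟩ := Ideal.exists_pow_le_of_le_radical_of_fg
      (irrelevant_le_radical_of_isFiniteLength 𝒢 L h0 hfin) (IsNoetherian.noetherian _)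
    exact fun m => ⟨N, fun c hc => Module.mem_annihilator.1 (hN hc) m⟩
  let S : ShortComplex (ModuleCat.{u} G) := ShortComplex.mk (X₁ := ModuleCat.of G G)
    (X₂ := ModuleCat.of G (integralClosure G L)) (X₃ := ModuleCat.of G (Defect G L))
    (ModuleCat.ofHom (Algebra.linearMap G (integralClosure G L))) (ModuleCat.ofHom (Submodule.mkQ _))
    (ModuleCat.hom_ext (LinearMap.ext fun g => (Submodule.Quotient.mk_eq_zero _).2 ⟨g, rfl⟩))
  have hS : S.ShortExact :=
    { exact := (ShortComplex.ShortExact.moduleCat_exact_iff_function_exact S).2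
        (LinearMap.exact_map_mkQ_range _)
      mono_f := (ModuleCat.mono_iff_injective _).2 (FaithfulSMul.algebraMap_injective G (integralClosure G L))
      epi_g := (ModuleCat.epi_iff_surjective _).2 (Submodule.mkQ_surjective _) }
  let δ := LC.δH I 0 hS 1 rfl
  haveI h0' : Subsingleton ((localCohomology I 0).obj S.X₂) := hvan 0 (by omega)
  haveI h1' : Subsingleton ((localCohomology I 1).obj S.X₂) := hvan 1 (by omega)
  have hinj : Function.Injective δ := by
    rw [injective_iff_map_eq_zero]
    intro z hz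
    obtain ⟨w, rfl⟩ := (LC.exact₃ I 0 hS 1 rfl z).1 hz
    rw [Subsingleton.elim w 0, map_zero]
  have hsurj : Function.Surjective δ := fun z => (LC.exact₁ I 0 hS 1 rfl z).1 (Subsingleton.elim _ _)
  exact ⟨((LinearEquiv.ofTop _ (LC.torsionSub_eq_top I htor)).symm.trans
    (LC.H0Equiv I (ModuleCat.of G (Defect G L))).symm).trans (LinearEquiv.ofBijective δ ⟨hinj, hsurj⟩)⟩

end Groth.Agent.H6GradedClosure
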