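import Groth.Agent.H6GradedClosure.Basic
import Groth.Agent.NormCurve.Nagata
import Groth.Agent.NagataLib.Field

/-!
# Normality off the vertex of a graded domain
-/

universe u

open DirectSum

namespace Groth.Agent.H6GradedClosure

variable {k : Type u} [Field k] {G : Type u} [CommRing G] [Algebra k G]
  (𝒢 : ℕ → Submodule k G) [GradedAlgebra 𝒢]

/-- A Noetherian nonnegatively graded algebra with `k` in degree zero is of finite type. -/
theorem finiteType [IsNoetherianRing G] (h0 : ∀ x ∈ 𝒢 0, x ∈ Set.range (algebraMap k G)) :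
    Algebra.FiniteType k G := by
  classical
  obtain ⟨F, hF, hspan⟩ := (Submodule.fg_span_iff_fg_span_finset_subset (R := G)
    (⋃ n ∈ Set.Ioi (0 : ℕ), (𝒢 n : Set G))).1 (IsNoetherian.noetherian _)
  let B := Algebra.adjoin k (F : Set G)
  suffices h : ∀ (n : ℕ), ∀ a ∈ 𝒢 n, a ∈ B by
    refine ⟨⟨F, eq_top_iff.2 fun a _ => ?_⟩⟩
    rw [← sum_support_decompose 𝒢 a]
    exact Subalgebra.sum_mem _ fun i _ => h i _ (SetLike.coe_mem _)
  intro n
  induction n using Nat.strong_induction_on with
  | _ n ih =>
    intro a ha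
    rcases Nat.eq_zero_or_pos n with rfl | hn
    · obtain ⟨c, rfl⟩ := h0 a ha
      exact B.algebraMap_mem c
    have hmem : a ∈ Submodule.span G (F : Set G) :=
      hspan.le (Submodule.subset_span (Set.mem_biUnion (show n ∈ Set.Ioi (0 : ℕ) from hn) ha))
    have key : ∀ z ∈ Submodule.span G (F : Set G), ∀ r : G, (decompose 𝒢 (r * z) n : G) ∈ B := by
      intro z hz
      induction hz using Submodule.span_induction with
      | mem f hf =>
        intro r
        obtain ⟨i, hi, hfi⟩ := Set.mem_iUnion₂.1 (hF hf)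
        by_cases hin : i ≤ n
        · rw [coe_decompose_mul_of_right_mem_of_le 𝒢 hfi hin]
          exact mul_mem (ih (n - i) (by have : 0 < i := hi; omega) _ (SetLike.coe_mem _)) (Algebra.subset_adjoin hf)
        · rw [coe_decompose_mul_of_right_mem_of_not_le 𝒢 hfi hin]
          exact zero_mem _
      | zero => intro r; simp
      | add x y _ _ hx hy =>
        intro r
        rw [mul_add, decompose_add, DirectSum.add_apply, AddMemClass.coe_add]
        exact add_mem (hx r) (hy r)
      | smul c x _ hx =>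
        intro r
        rw [smul_eq_mul, ← mul_assoc]
        exact hx _
    have h := key a hmem 1
    rwa [one_mul, decompose_of_mem_same 𝒢 ha] at h

theorem mem_irrel (a : G) : a ∈ (HomogeneousIdeal.irrelevant 𝒢).toIdeal ↔ GradedRing.proj 𝒢 0 a = 0 :=
  HomogeneousIdeal.mem_irrelevant_iff 𝒢 a

theorem isMaximal_irrelevant [Nontrivial G] (h0 : ∀ x ∈ 𝒢 0, x ∈ Set.range (algebraMap k G)) :
    (HomogeneousIdeal.irrelevant 𝒢).toIdeal.IsMaximal := by
  classical
  rw [Ideal.isMaximal_iff]
  refine ⟨fun h => ?_, fun J x hle hx hxJ => ?_⟩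
  · rw [mem_irrel] at h
    simp only [GradedRing.proj_apply, decompose_of_mem_same 𝒢 (SetLike.one_mem_graded 𝒢)] at h
    exact one_ne_zero h
  · obtain ⟨c, hc⟩ := h0 _ (SetLike.coe_mem (decompose 𝒢 x 0))
    have hxc : x - algebraMap k G c ∈ J := hle (by
      rw [mem_irrel, map_sub]
      simp only [GradedRing.proj_apply]
      rw [decompose_of_mem_same 𝒢 (SetLike.algebraMap_mem_graded 𝒢 c), hc, sub_self])
    have hcJ : algebraMap k G c ∈ J := by simpa using J.sub_mem hxJ hxc
    have hc0 : c ≠ 0 := by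
      rintro rfl
      refine hx ?_
      rw [mem_irrel, GradedRing.proj_apply, ← hc, map_zero]
    simpa [← map_mul, inv_mul_cancel₀ hc0] using J.mul_mem_left (algebraMap k G c⁻¹) hcJ

theorem le_irrelevant (h0 : ∀ x ∈ 𝒢 0, x ∈ Set.range (algebraMap k G)) {I : Ideal G} (hI : I.IsHomogeneous 𝒢)
    (hne : I ≠ ⊤) : I ≤ (HomogeneousIdeal.irrelevant 𝒢).toIdeal := by
  intro x hx
  rw [mem_irrel, GradedRing.proj_apply]
  obtain ⟨c, hc⟩ := h0 _ (SetLike.coe_mem (decompose 𝒢 x 0))
  have hmem : algebraMap k G c ∈ I := hc ▸ hI 0 hx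
  by_contra hne0
  have hc0 : c ≠ 0 := fun h => hne0 (by rw [← hc, h, map_zero])
  exact hne (Ideal.eq_top_of_isUnit_mem _ hmem ((isUnit_iff_ne_zero.2 hc0).map _))

variable [IsDomain G] (L : Type u) [Field L] [Algebra G L] [IsFractionRing G L]

/-- The normalisation modulo the ring. -/
abbrev Defect (G : Type u) [CommRing G] (L : Type u) [Field L] [Algebra G L] : Type u :=
  ↥(integralClosure G L) ⧸ LinearMap.range (Algebra.linearMap G ↥(integralClosure G L))

theorem finite_integralClosure [IsNoetherianRing G] (h0 : ∀ x ∈ 𝒢 0, x ∈ Set.range (algebraMap k G)) :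
    Module.Finite G (integralClosure G L) :=
  haveI := finiteType 𝒢 h0
  NormCurve.finite_integralClosure_of_nagata (NagataLib.isNagata_of_finiteType k G) L

omit [IsDomain G] in
theorem isIntegrallyClosed_atPrime_iff [IsDomain G] [Module.Finite G (integralClosure G L)] (p : Ideal G) [p.IsPrime] :
    IsIntegrallyClosed (Localization.AtPrime p) ↔ ¬ conductor L ≤ p := by
  classical
  let Gp := Localization.AtPrime p
  have hu : ∀ y : p.primeCompl, IsUnit (algebraMap G L y) := fun y =>
    isUnit_iff_ne_zero.2 fun h => y.2 (by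
      rw [IsFractionRing.injective G L (h.trans (map_zero _).symm)]
      exact p.zero_mem)
  letI : Algebra Gp L := (IsLocalization.lift (S := Gp) hu).toAlgebra
  haveI : IsScalarTower G Gp L := IsScalarTower.of_algebraMap_eq fun g => (IsLocalization.lift_eq hu g).symm
  haveI : IsFractionRing Gp L := IsFractionRing.isFractionRing_of_isDomain_of_isLocalization p.primeCompl Gp L
  rw [isIntegrallyClosed_iff L]
  constructor
  · intro h
    obtain ⟨s, hs⟩ := Module.Finite.fg_top (R := G) (M := integralClosure G L)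
    have key : ∀ z : integralClosure G L, ∃ t ∉ p, ∃ g : G, algebraMap G L t * (z : L) = algebraMap G L g := by
      intro z
      obtain ⟨w, hw⟩ := h (IsIntegral.tower_top (A := Gp) z.2)
      obtain ⟨⟨g, t⟩, hgt⟩ := IsLocalization.surj p.primeCompl w
      refine ⟨t, t.2, g, ?_⟩
      rw [← hw, IsScalarTower.algebraMap_apply G Gp L, IsScalarTower.algebraMap_apply G Gp L g, ← map_mul, mul_comm,
        hgt]
    choose t ht g hg using key
    have hprod : (∏ z ∈ s, t z) ∉ p := fun hmem => by
      obtain ⟨z, -, hz⟩ := (‹p.IsPrime›.prod_mem_iff).1 hmem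
      exact ht z hz
    refine fun hle => hprod (hle ((mem_conductor_iff (L := L)).2 fun x hx => ?_))
    have hspan : (⟨x, hx⟩ : integralClosure G L) ∈ Submodule.span G (s : Set (integralClosure G L)) := by
      rw [hs]; trivial
    suffices ∀ y ∈ Submodule.span G (s : Set (integralClosure G L)),
        ∃ g' : G, algebraMap G L (∏ z ∈ s, t z) * (y : L) = algebraMap G L g' from this _ hspan
    intro y hy
    induction hy using Submodule.span_induction with
    | mem y hy =>
      refine ⟨(∏ z ∈ s.erase y, t z) * g y, ?_⟩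
      rw [← Finset.prod_erase_mul s t hy, map_mul, map_mul, mul_assoc, hg]
    | zero => exact ⟨0, by simp⟩
    | add a b _ _ ha hb =>
      obtain ⟨ga, ha⟩ := ha
      obtain ⟨gb, hb⟩ := hb
      exact ⟨ga + gb, by rw [Subalgebra.coe_add, mul_add, ha, hb, map_add]⟩
    | smul c a _ ha =>
      obtain ⟨ga, ha⟩ := ha
      exact ⟨c * ga, by rw [SetLike.val_smul, Algebra.smul_def, mul_left_comm, ha, map_mul]⟩
  · intro h x hx
    obtain ⟨c, hc, hcp⟩ := SetLike.not_le_iff_exists.1 h
    obtain ⟨⟨s, hs⟩, hsx⟩ := IsIntegral.exists_multiple_integral_of_isLocalization p.primeCompl x hx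
    obtain ⟨g, hg⟩ := (mem_conductor_iff (L := L)).1 hc _ hsx
    refine ⟨IsLocalization.mk' Gp g (⟨c, hcp⟩ * ⟨s, hs⟩ : p.primeCompl), ?_⟩
    have h1 := congrArg (algebraMap Gp L) (IsLocalization.mk'_spec Gp g (⟨c, hcp⟩ * ⟨s, hs⟩ : p.primeCompl))
    rw [map_mul, ← IsScalarTower.algebraMap_apply, ← IsScalarTower.algebraMap_apply] at h1
    refine (hu (⟨c, hcp⟩ * ⟨s, hs⟩)).mul_right_cancel (h1.trans ?_)
    rw [← hg, Submonoid.smul_def, Algebra.smul_def, Submonoid.coe_mul, map_mul]
    ring

end Groth.Agent.H6GradedClosure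

namespace Groth.Agent.H6GradedClosure

variable {k : Type u} [Field k] {G : Type u} [CommRing G] [Algebra k G] [IsDomain G]
  (𝒢 : ℕ → Submodule k G) [GradedAlgebra 𝒢] (L : Type u) [Field L] [Algebra G L] [IsFractionRing G L]

theorem finite_defect [IsNoetherianRing G] (h0 : ∀ x ∈ 𝒢 0, x ∈ Set.range (algebraMap k G)) :
    Module.Finite G (Defect G L) :=
  haveI := finite_integralClosure 𝒢 L h0
  inferInstance

theorem irrelevant_le_radical_of_isFiniteLength [IsNoetherianRing G] (h0 : ∀ x ∈ 𝒢 0, x ∈ Set.range (algebraMap k G))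
    (h : IsFiniteLength G (Defect G L)) :
    (HomogeneousIdeal.irrelevant 𝒢).toIdeal ≤ (conductor (G := G) L).radical := by
  haveI := finite_defect 𝒢 L h0
  haveI := (isFiniteLength_iff_isNoetherian_isArtinian.1 h).2
  haveI : IsArtinianRing (G ⧸ conductor (G := G) L) := by
    obtain ⟨s, hs⟩ := Module.Finite.fg_top (R := G) (M := Defect G L)
    let f : G →ₗ[G] ({z // z ∈ s} → Defect G L) := LinearMap.pi fun z => LinearMap.toSpanSingleton G _ z.1
    have hker : LinearMap.ker f = conductor (G := G) L := by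
      ext c
      rw [LinearMap.mem_ker, conductor, ← Submodule.annihilator_top, ← hs, Submodule.mem_annihilator_span]
      exact ⟨fun h z => congr_fun h z, fun h => funext h⟩
    haveI : IsArtinian G ({z // z ∈ s} → Defect G L) := inferInstance
    haveI : IsArtinian G (G ⧸ LinearMap.ker f) :=
      isArtinian_of_injective _ (LinearMap.ker_eq_bot.1 (Submodule.ker_liftQ_eq_bot' (LinearMap.ker f) f rfl))
    haveI : IsArtinian G (G ⧸ conductor (G := G) L) := hker ▸ this
    exact isArtinian_of_tower G this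
  rw [Ideal.radical_eq_sInf]
  refine le_sInf fun p hp => ?_
  haveI := hp.2
  let c := (Ideal.homogeneousCore 𝒢 p).toIdeal
  haveI hc : c.IsPrime := hp.2.homogeneousCore
  have hcond : conductor (G := G) L ≤ c := by
    rw [← (isHomogeneous_conductor 𝒢 (L := L)).toIdeal_homogeneousCore_eq_self]
    exact Ideal.homogeneousCore_mono 𝒢 hp.1
  have hle : c ≤ (HomogeneousIdeal.irrelevant 𝒢).toIdeal :=
    le_irrelevant 𝒢 h0 (Ideal.homogeneousCore 𝒢 p).isHomogeneous hc.ne_top
  haveI : c.IsMaximal := by
    have hker : RingHom.ker (Ideal.Quotient.mk (conductor (G := G) L)) ≤ c := by rw [Ideal.mk_ker]; exact hcond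
    haveI := Ideal.map_isPrime_of_surjective Ideal.Quotient.mk_surjective hker
    haveI := IsArtinianRing.isMaximal_of_isPrime (c.map (Ideal.Quotient.mk (conductor (G := G) L)))
    have := Ideal.comap_isMaximal_of_surjective (Ideal.Quotient.mk (conductor (G := G) L))
      Ideal.Quotient.mk_surjective (K := c.map (Ideal.Quotient.mk (conductor (G := G) L)))
    rwa [Ideal.comap_map_of_surjective _ Ideal.Quotient.mk_surjective, ← RingHom.ker_eq_comap_bot, sup_eq_left.2 hker] at this
  exact (Ideal.IsMaximal.eq_of_le ‹_› (isMaximal_irrelevant 𝒢 h0).ne_top hle).ge.trans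
    (Ideal.toIdeal_homogeneousCore_le 𝒢 p)

theorem isFiniteLength_of_irrelevant_le_radical [IsNoetherianRing G] (h0 : ∀ x ∈ 𝒢 0, x ∈ Set.range (algebraMap k G))
    (h : (HomogeneousIdeal.irrelevant 𝒢).toIdeal ≤ (conductor (G := G) L).radical) :
    IsFiniteLength G (Defect G L) := by
  haveI := finite_defect 𝒢 L h0
  haveI := isMaximal_irrelevant 𝒢 h0
  haveI : IsArtinianRing (G ⧸ conductor (G := G) L) := by
    rw [isArtinianRing_iff_isNoetherianRing_krullDimLE_zero]
    refine ⟨inferInstance, Ring.krullDimLE_zero_iff.2 fun q hq => ?_⟩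
    have hc : conductor (G := G) L ≤ q.comap (Ideal.Quotient.mk _) := by
      conv_lhs => rw [← Ideal.mk_ker (I := conductor (G := G) L)]
      exact Ideal.comap_mono bot_le
    have heq : q.comap (Ideal.Quotient.mk (conductor (G := G) L)) = (HomogeneousIdeal.irrelevant 𝒢).toIdeal :=
      ((isMaximal_irrelevant 𝒢 h0).eq_of_le (Ideal.comap_isPrime _ q).ne_top
        (h.trans ((Ideal.comap_isPrime _ q).radical_le_iff.2 hc))).symm
    rw [← Ideal.map_comap_of_surjective _ Ideal.Quotient.mk_surjective q, heq]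
    exact Ideal.IsMaximal.map_of_surjective_of_ker_le Ideal.Quotient.mk_surjective
      (by rw [← heq]; exact Ideal.comap_mono bot_le)
  have hann : Module.IsTorsionBySet G (Defect G L) (conductor (G := G) L : Set G) :=
    fun m c => Module.mem_annihilator.1 c.2 m
  letI := hann.module
  haveI : IsScalarTower G (G ⧸ conductor (G := G) L) (Defect G L) := hann.isScalarTower
  haveI : Module.Finite (G ⧸ conductor (G := G) L) (Defect G L) := Module.Finite.of_restrictScalars_finite G _ _
  haveI : IsArtinian (G ⧸ conductor (G := G) L) (Defect G L) := inferInstance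
  haveI : IsArtinian G (Defect G L) := isArtinian_of_surjective_algebraMap (Ideal.Quotient.mk_surjective (I := conductor (G := G) L))
  exact isFiniteLength_iff_isNoetherian_isArtinian.2 ⟨inferInstance, inferInstance⟩

end Groth.Agent.H6GradedClosure
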